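import Cfsg.Prelude.Def_SporadicCombinatorics

/-!
The ternary Golay code in systematic form, for the computation of its monomial group.
(helper909, for S1594)
-/

set_option autoImplicit false

namespace Cfsg.Agent.TernaryGolay.AutCode

open Cfsg

/-- Explicit parity checks (systematic form: the pivots `(0,*)`, `(1,0)`, `(1,1)`, `(2,0)` in terms
of the other six coordinates). -/
def Chk (x : ArrayPt → ZMod 3) : Prop :=
  x (0, 0) = 2 * x (1, 2) + 2 * x (2, 2) + 2 * x (3, 0) + 2 * x (3, 1) + x (3, 2) ∧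
  x (0, 1) = 2 * x (1, 2) + x (2, 1) + x (2, 2) + x (3, 0) + x (3, 2) ∧
  x (0, 2) = 2 * x (1, 2) + 2 * x (2, 1) + x (3, 0) + 2 * x (3, 1) + 2 * x (3, 2) ∧
  x (1, 0) = x (1, 2) + x (2, 1) + 2 * x (2, 2) + x (3, 0) + 2 * x (3, 1) ∧
  x (1, 1) = x (1, 2) + 2 * x (2, 1) + x (2, 2) + 2 * x (3, 1) + x (3, 2) ∧
  x (2, 0) = 2 * x (2, 1) + 2 * x (2, 2) + x (3, 0) + x (3, 1) + x (3, 2)

instance instDecidableChk (x : ArrayPt → ZMod 3) : Decidable (Chk x) := by
  unfold Chk; infer_instance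

theorem mem_tetracode_iff (t : Fin 4 → ZMod 3) :
    t ∈ tetracode ↔ ∃ a b : ZMod 3, t = ![b, a, a + b, a + 2 * b] := by
  unfold tetracode
  rw [Submodule.mem_span_pair]
  constructor
  · rintro ⟨a, b, rfl⟩
    refine ⟨a, b, ?_⟩
    funext i
    fin_cases i <;> simp [mul_comm]
  · rintro ⟨a, b, rfl⟩
    refine ⟨a, b, ?_⟩
    funext i
    fin_cases i <;> simp [mul_comm]

theorem isWord_iff (x : ArrayPt → ZMod 3) : IsTernaryGolayWord x ↔
    ∃ s : ZMod 3, (∀ i : Fin 4, x (i, 0) + x (i, 1) + x (i, 2) = -s) ∧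
      ∀ a b : ZMod 3, x (0, b) + x (1, a) + x (2, a + b) + x (3, a + 2 * b) = s := by
  unfold IsTernaryGolayWord
  refine exists_congr fun s => and_congr ?_ ?_
  · refine forall_congr' fun i => ?_
    have : ∑ r : ZMod 3, x (i, r) = x (i, 0) + x (i, 1) + x (i, 2) := by
      exact Fin.sum_univ_three (fun r : Fin 3 => x (i, r))
    rw [this]
  · constructor
    · intro h a b
      have := h _ ((mem_tetracode_iff _).2 ⟨a, b, rfl⟩)
      rw [Fin.sum_univ_four] at this
      simpa using this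
    · intro h t ht
      obtain ⟨a, b, rfl⟩ := (mem_tetracode_iff _).1 ht
      rw [Fin.sum_univ_four]
      simpa using h a b

theorem mem_iff (x : ArrayPt → ZMod 3) : x ∈ ternaryGolayCode ↔ Chk x := by
  have h3 : (3 : ZMod 3) = 0 := rfl
  change IsTernaryGolayWord x ↔ _
  rw [isWord_iff]
  constructor
  · rintro ⟨s, hc, ht⟩
    have hc0 := hc 0
    have hc1 := hc 1
    have hc2 := hc 2
    have hc3 := hc 3
    have ht00 := ht 0 0
    have ht01 := ht 0 1
    have ht10 := ht 1 0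
    rw [show (0 : ZMod 3) + 0 = 0 from rfl, show (0 : ZMod 3) + 2 * 0 = 0 from rfl] at ht00
    rw [show (0 : ZMod 3) + 1 = 1 from rfl, show (0 : ZMod 3) + 2 * 1 = 2 from rfl] at ht01
    rw [show (1 : ZMod 3) + 0 = 1 from rfl, show (1 : ZMod 3) + 2 * 0 = 1 from rfl] at ht10
    refine ⟨?_, ?_, ?_, ?_, ?_, ?_⟩
    · linear_combination 1 * hc1 + 1 * hc2 + 2 * hc3 + 2 * ht00 + 2 * ht10 + ((-1) * x (0, 0) + (-1) * x (1, 0) + (-1) * x (1, 1) + (-1) * x (1, 2) + (-1) * x (2, 0) + (-1) * x (2, 1) + (-1) * x (2, 2) + (-2) * x (3, 0) + (-2) * x (3, 1) + (-1) * x (3, 2)) * h3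
    · linear_combination 1 * hc1 + 2 * hc2 + 1 * hc3 + 1 * ht00 + 1 * ht01 + 2 * ht10 + ((-1) * x (0, 0) + (-1) * x (1, 0) + (-1) * x (1, 1) + (-1) * x (1, 2) + (-1) * x (2, 0) + (-2) * x (2, 1) + (-1) * x (2, 2) + (-1) * x (3, 0) + (-1) * x (3, 1) + (-1) * x (3, 2)) * h3
    · linear_combination 1 * hc0 + 1 * hc1 + 2 * hc3 + 2 * ht01 + 2 * ht10 + ((-1) * x (0, 0) + (-1) * x (0, 1) + (-1) * x (1, 0) + (-1) * x (1, 1) + (-1) * x (1, 2) + (-2) * x (2, 1) + (-1) * x (3, 0) + (-2) * x (3, 1) + (-2) * x (3, 2)) * h3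
    · linear_combination 2 * hc1 + 1 * hc2 + 2 * ht00 + 1 * ht10 + ((-1) * x (0, 0) + (-1) * x (1, 0) + (-1) * x (1, 1) + (-1) * x (1, 2) + (-1) * x (2, 0) + (-1) * x (2, 1) + (-1) * x (2, 2) + (-1) * x (3, 0) + (-1) * x (3, 1)) * h3
    · linear_combination 2 * hc1 + 2 * hc2 + 2 * hc3 + 1 * ht00 + 2 * ht10 + ((-1) * x (0, 0) + (-1) * x (1, 0) + (-1) * x (1, 1) + (-1) * x (1, 2) + (-1) * x (2, 0) + (-2) * x (2, 1) + (-1) * x (2, 2) + (-1) * x (3, 0) + (-2) * x (3, 1) + (-1) * x (3, 2) + (-1) * s) * h3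
    · linear_combination 1 * hc2 + 2 * hc3 + ((-1) * x (2, 1) + (-1) * x (2, 2) + (-1) * x (3, 0) + (-1) * x (3, 1) + (-1) * x (3, 2) + (-1) * s) * h3
  · rintro ⟨e0, e1, e2, e3, e4, e6⟩
    refine ⟨-(x (3, 0) + x (3, 1) + x (3, 2)), ?_, ?_⟩
    · intro i
      fin_cases i
      · simp only [Fin.zero_eta, Fin.isValue]
        rw [e0, e1, e2]
        generalize x (1, 2) = y1, x (2, 1) = y2, x (2, 2) = y3, x (3, 0) = y4, x (3, 1) = y5,
          x (3, 2) = y6
        revert y1 y2 y3 y4 y5 y6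
        decide +kernel
      · simp only [Fin.mk_one, Fin.isValue]
        rw [e3, e4]
        generalize x (1, 2) = y1, x (2, 1) = y2, x (2, 2) = y3, x (3, 0) = y4, x (3, 1) = y5,
          x (3, 2) = y6
        revert y1 y2 y3 y4 y5 y6
        decide +kernel
      · simp only [Fin.reduceFinMk, Fin.isValue]
        rw [e6]
        generalize x (1, 2) = y1, x (2, 1) = y2, x (2, 2) = y3, x (3, 0) = y4, x (3, 1) = y5,
          x (3, 2) = y6
        revert y1 y2 y3 y4 y5 y6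
        decide +kernel
      · simp only [Fin.reduceFinMk, Fin.isValue, neg_neg]
    · intro a b
      have ha : a = 0 ∨ a = 1 ∨ a = 2 := by revert a; decide
      have hb : b = 0 ∨ b = 1 ∨ b = 2 := by revert b; decide
      rcases ha with rfl | rfl | rfl <;> rcases hb with rfl | rfl | rfl
      · simp only [show (0 : ZMod 3) + 0 = 0 from rfl, show (0 : ZMod 3) + 2 * 0 = 0 from rfl]
        rw [e0, e3, e6]
        generalize x (1, 2) = y1, x (2, 1) = y2, x (2, 2) = y3, x (3, 0) = y4, x (3, 1) = y5,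
          x (3, 2) = y6
        revert y1 y2 y3 y4 y5 y6
        decide +kernel
      · simp only [show (0 : ZMod 3) + 1 = 1 from rfl, show (0 : ZMod 3) + 2 * 1 = 2 from rfl]
        rw [e1, e3]
        generalize x (1, 2) = y1, x (2, 1) = y2, x (2, 2) = y3, x (3, 0) = y4, x (3, 1) = y5,
          x (3, 2) = y6
        revert y1 y2 y3 y4 y5 y6
        decide +kernel
      · simp only [show (0 : ZMod 3) + 2 = 2 from rfl, show (0 : ZMod 3) + 2 * 2 = 1 from rfl]
        rw [e2, e3]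
        generalize x (1, 2) = y1, x (2, 1) = y2, x (2, 2) = y3, x (3, 0) = y4, x (3, 1) = y5,
          x (3, 2) = y6
        revert y1 y2 y3 y4 y5 y6
        decide +kernel
      · simp only [show (1 : ZMod 3) + 0 = 1 from rfl, show (1 : ZMod 3) + 2 * 0 = 1 from rfl]
        rw [e0, e4]
        generalize x (1, 2) = y1, x (2, 1) = y2, x (2, 2) = y3, x (3, 0) = y4, x (3, 1) = y5,
          x (3, 2) = y6
        revert y1 y2 y3 y4 y5 y6
        decide +kernel
      · simp only [show (1 : ZMod 3) + 1 = 2 from rfl, show (1 : ZMod 3) + 2 * 1 = 0 from rfl]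
        rw [e1, e4]
        generalize x (1, 2) = y1, x (2, 1) = y2, x (2, 2) = y3, x (3, 0) = y4, x (3, 1) = y5,
          x (3, 2) = y6
        revert y1 y2 y3 y4 y5 y6
        decide +kernel
      · simp only [show (1 : ZMod 3) + 2 = 0 from rfl, show (1 : ZMod 3) + 2 * 2 = 2 from rfl]
        rw [e2, e4, e6]
        generalize x (1, 2) = y1, x (2, 1) = y2, x (2, 2) = y3, x (3, 0) = y4, x (3, 1) = y5,
          x (3, 2) = y6
        revert y1 y2 y3 y4 y5 y6
        decide +kernel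
      · simp only [show (2 : ZMod 3) + 0 = 2 from rfl, show (2 : ZMod 3) + 2 * 0 = 2 from rfl]
        rw [e0]
        generalize x (1, 2) = y1, x (2, 1) = y2, x (2, 2) = y3, x (3, 0) = y4, x (3, 1) = y5,
          x (3, 2) = y6
        revert y1 y2 y3 y4 y5 y6
        decide +kernel
      · simp only [show (2 : ZMod 3) + 1 = 0 from rfl, show (2 : ZMod 3) + 2 * 1 = 1 from rfl]
        rw [e1, e6]
        generalize x (1, 2) = y1, x (2, 1) = y2, x (2, 2) = y3, x (3, 0) = y4, x (3, 1) = y5,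
          x (3, 2) = y6
        revert y1 y2 y3 y4 y5 y6
        decide +kernel
      · simp only [show (2 : ZMod 3) + 2 = 1 from rfl, show (2 : ZMod 3) + 2 * 2 = 0 from rfl]
        rw [e2]
        generalize x (1, 2) = y1, x (2, 1) = y2, x (2, 2) = y3, x (3, 0) = y4, x (3, 1) = y5,
          x (3, 2) = y6
        revert y1 y2 y3 y4 y5 y6
        decide +kernel

end Cfsg.Agent.TernaryGolay.AutCode
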