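import Cfsg.Agent.TernaryGolay.AutCode

/-!
Kernel-checked data for the monomial group of the ternary Golay code: 46 explicit
monomial automorphisms (coset representatives along the stabiliser chain of five base points), the
132 hexads as bitmasks, and a rigidity test.  (helper909, for S1594)
-/

set_option autoImplicit false

namespace Cfsg.Agent.TernaryGolay.AutData

open Cfsg Cfsg.Agent.TernaryGolay.AutCode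

/-- index of a point, `(i, r) ↦ 3 * i + r` -/
def idx (p : ArrayPt) : ℕ := 3 * p.1.val + p.2.val

/-- residue of a natural number modulo 3 -/
def r3 (n : ℕ) : ZMod 3 := (Fin.ofNat 3 n : Fin 3)

/-- point with a given index -/
def pt (n : ℕ) : ArrayPt := (Fin.ofNat 4 (n / 3), r3 n)

theorem pt_idx (p : ArrayPt) : pt (idx p) = p := by
  revert p; decide +kernel

/-- a word from a list of 12 entries -/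
def wordOf (l : List ℕ) (p : ArrayPt) : ZMod 3 := r3 (l.getD (idx p) 0)

/-- The systematic basis of the code. -/
def basTab : List (List ℕ) :=
  [[2, 2, 2, 1, 1, 1, 0, 0, 0, 0, 0, 0],
   [0, 1, 2, 1, 2, 0, 2, 1, 0, 0, 0, 0],
   [2, 1, 0, 2, 1, 0, 2, 0, 1, 0, 0, 0],
   [2, 1, 1, 1, 0, 0, 1, 0, 0, 1, 0, 0],
   [2, 0, 2, 2, 2, 0, 1, 0, 0, 0, 1, 0],
   [1, 1, 2, 0, 1, 0, 1, 0, 0, 0, 0, 1]]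

/-- The systematic basis of the code. -/
def bas (j : Fin 6) : ArrayPt → ZMod 3 := wordOf (basTab.getD j.val [])

/-- point map from a table -/
def tab (l : List ℕ) (p : ArrayPt) : ArrayPt := pt (l.getD (idx p) 0)

/-- signs from a table (entry `2` means `-1`) -/
def sgn (l : List ℕ) (p : ArrayPt) : (ZMod 3)ˣ := if l.getD (idx p) 0 = 2 then -1 else 1

/-- `l` is the table of a permutation with inverse table `l'`, and together with the signs `c` it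
maps the basis of the code into the code. -/
def Good (l l' c : List ℕ) : Prop :=
  (∀ p, tab l' (tab l p) = p) ∧ (∀ p, tab l (tab l' p) = p) ∧
    ∀ j : Fin 6, Chk (fun p => (sgn c p : ZMod 3) * bas j (tab l' p))

instance instDecidableGood (l l' c : List ℕ) : Decidable (Good l l' c) := by
  unfold Good; infer_instance

/-- Coset representatives. -/
def table : List (List ℕ × List ℕ × List ℕ) := [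
    ([0, 1, 2, 3, 4, 5, 6, 7, 8, 9, 10, 11], [0, 1, 2, 3, 4, 5, 6, 7, 8, 9, 10, 11], [1, 1, 1, 1, 1, 1, 1, 1, 1, 1, 1, 1]),
    ([1, 0, 2, 3, 4, 5, 11, 9, 10, 7, 8, 6], [1, 0, 2, 3, 4, 5, 11, 9, 10, 7, 8, 6], [1, 1, 1, 1, 1, 1, 1, 1, 1, 1, 1, 1]),
    ([2, 0, 1, 3, 4, 5, 8, 6, 7, 10, 11, 9], [1, 2, 0, 3, 4, 5, 7, 8, 6, 11, 9, 10], [1, 1, 1, 1, 1, 1, 1, 1, 1, 1, 1, 1]),
    ([3, 0, 1, 2, 4, 5, 10, 7, 6, 8, 9, 11], [1, 2, 3, 0, 4, 5, 8, 7, 9, 10, 6, 11], [1, 1, 2, 2, 1, 1, 2, 2, 1, 2, 1, 2]),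
    ([4, 0, 1, 2, 3, 5, 6, 9, 10, 11, 7, 8], [1, 2, 3, 4, 0, 5, 6, 10, 11, 7, 8, 9], [1, 1, 2, 1, 2, 1, 1, 2, 2, 2, 2, 1]),
    ([5, 0, 1, 2, 3, 4, 9, 6, 8, 7, 11, 10], [1, 2, 3, 4, 5, 0, 7, 9, 8, 6, 11, 10], [1, 1, 2, 1, 1, 2, 2, 1, 2, 1, 2, 2]),
    ([6, 0, 1, 2, 3, 9, 5, 4, 7, 10, 8, 11], [1, 2, 3, 4, 7, 6, 0, 8, 10, 5, 9, 11], [1, 2, 1, 1, 2, 1, 2, 2, 2, 1, 1, 2]),
    ([7, 0, 1, 2, 3, 11, 10, 8, 9, 4, 5, 6], [1, 2, 3, 4, 9, 10, 11, 0, 7, 8, 6, 5], [1, 2, 2, 2, 2, 1, 1, 1, 1, 1, 2, 2]),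
    ([8, 0, 1, 2, 3, 10, 7, 11, 4, 6, 9, 5], [1, 2, 3, 4, 8, 11, 9, 6, 0, 10, 5, 7], [1, 1, 1, 2, 1, 1, 2, 2, 1, 1, 2, 1]),
    ([9, 0, 1, 2, 3, 6, 4, 5, 11, 8, 10, 7], [1, 2, 3, 4, 6, 7, 5, 11, 9, 0, 10, 8], [1, 2, 1, 1, 1, 2, 1, 2, 1, 2, 2, 2]),
    ([10, 0, 1, 2, 3, 8, 11, 7, 5, 9, 6, 4], [1, 2, 3, 4, 11, 8, 10, 7, 5, 9, 0, 6], [1, 1, 1, 2, 1, 1, 1, 1, 2, 2, 1, 2]),
    ([11, 0, 1, 2, 3, 7, 8, 10, 6, 5, 4, 9], [1, 2, 3, 4, 10, 9, 8, 5, 6, 11, 7, 0], [1, 2, 2, 2, 1, 2, 1, 2, 2, 1, 1, 1]),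
    ([0, 2, 1, 3, 4, 5, 9, 10, 11, 6, 7, 8], [0, 2, 1, 3, 4, 5, 9, 10, 11, 6, 7, 8], [1, 1, 1, 1, 1, 1, 1, 1, 1, 1, 1, 1]),
    ([0, 3, 1, 2, 4, 5, 11, 8, 9, 7, 6, 10], [0, 2, 3, 1, 4, 5, 10, 9, 7, 8, 11, 6], [1, 1, 2, 2, 1, 1, 2, 2, 1, 2, 1, 2]),
    ([0, 4, 1, 2, 3, 5, 8, 11, 7, 9, 10, 6], [0, 2, 3, 4, 1, 5, 11, 8, 6, 9, 10, 7], [1, 1, 2, 1, 2, 1, 1, 2, 2, 2, 2, 1]),
    ([0, 5, 1, 2, 3, 4, 10, 7, 11, 6, 8, 9], [0, 2, 3, 4, 5, 1, 9, 7, 10, 11, 6, 8], [1, 1, 2, 1, 1, 2, 2, 1, 2, 1, 2, 2]),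
    ([0, 6, 1, 2, 3, 9, 11, 10, 8, 4, 7, 5], [0, 2, 3, 4, 9, 11, 1, 10, 8, 5, 7, 6], [1, 2, 1, 1, 2, 1, 2, 2, 2, 1, 1, 2]),
    ([0, 7, 1, 2, 3, 11, 6, 4, 5, 8, 9, 10], [0, 2, 3, 4, 7, 8, 6, 1, 9, 10, 11, 5], [1, 2, 2, 2, 2, 1, 1, 1, 1, 1, 2, 2]),
    ([0, 8, 1, 2, 3, 10, 5, 6, 9, 11, 4, 7], [0, 2, 3, 4, 10, 6, 7, 11, 1, 8, 5, 9], [1, 1, 1, 2, 1, 1, 2, 2, 1, 1, 2, 1]),
    ([0, 9, 1, 2, 3, 6, 7, 8, 10, 5, 11, 4], [0, 2, 3, 4, 11, 9, 5, 6, 7, 1, 8, 10], [1, 2, 1, 1, 1, 2, 1, 2, 1, 2, 2, 2]),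
    ([0, 10, 1, 2, 3, 8, 4, 9, 6, 7, 5, 11], [0, 2, 3, 4, 6, 10, 8, 9, 5, 7, 1, 11], [1, 1, 1, 2, 1, 1, 1, 1, 2, 2, 1, 2]),
    ([0, 11, 1, 2, 3, 7, 9, 5, 4, 10, 6, 8], [0, 2, 3, 4, 8, 7, 10, 5, 11, 6, 9, 1], [1, 2, 2, 2, 1, 2, 1, 2, 2, 1, 1, 1]),
    ([0, 1, 3, 2, 4, 5, 7, 6, 10, 11, 8, 9], [0, 1, 3, 2, 4, 5, 7, 6, 10, 11, 8, 9], [1, 1, 2, 2, 1, 1, 2, 2, 1, 2, 1, 2]),
    ([0, 1, 4, 2, 3, 5, 9, 10, 6, 8, 11, 7], [0, 1, 3, 4, 2, 5, 8, 11, 9, 6, 7, 10], [1, 1, 2, 1, 2, 1, 1, 2, 2, 2, 2, 1]),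
    ([0, 1, 5, 2, 3, 4, 6, 8, 9, 10, 7, 11], [0, 1, 3, 4, 5, 2, 6, 10, 7, 8, 9, 11], [1, 1, 2, 1, 1, 2, 2, 1, 2, 1, 2, 2]),
    ([0, 1, 6, 2, 3, 9, 4, 7, 5, 11, 10, 8], [0, 1, 3, 4, 6, 8, 2, 7, 11, 5, 10, 9], [1, 2, 1, 1, 2, 1, 2, 2, 2, 1, 1, 2]),
    ([0, 1, 7, 2, 3, 11, 8, 9, 10, 6, 4, 5], [0, 1, 3, 4, 10, 11, 9, 2, 6, 7, 8, 5], [1, 2, 2, 2, 2, 1, 1, 1, 1, 1, 2, 2]),
    ([0, 1, 8, 2, 3, 10, 11, 4, 7, 5, 6, 9], [0, 1, 3, 4, 7, 9, 10, 8, 2, 11, 5, 6], [1, 1, 1, 2, 1, 1, 2, 2, 1, 1, 2, 1]),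
    ([0, 1, 9, 2, 3, 6, 5, 11, 4, 7, 8, 10], [0, 1, 3, 4, 8, 6, 5, 9, 10, 2, 11, 7], [1, 2, 1, 1, 1, 2, 1, 2, 1, 2, 2, 2]),
    ([0, 1, 10, 2, 3, 8, 7, 5, 11, 4, 9, 6], [0, 1, 3, 4, 9, 7, 11, 6, 5, 10, 2, 8], [1, 1, 1, 2, 1, 1, 1, 1, 2, 2, 1, 2]),
    ([0, 1, 11, 2, 3, 7, 10, 6, 8, 9, 5, 4], [0, 1, 3, 4, 11, 10, 7, 5, 8, 9, 6, 2], [1, 2, 2, 2, 1, 2, 1, 2, 2, 1, 1, 1]),
    ([0, 1, 2, 4, 3, 5, 10, 9, 11, 7, 6, 8], [0, 1, 2, 4, 3, 5, 10, 9, 11, 7, 6, 8], [1, 1, 1, 1, 1, 1, 1, 1, 1, 1, 1, 1]),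
    ([0, 1, 2, 5, 3, 4, 8, 6, 7, 11, 9, 10], [0, 1, 2, 4, 5, 3, 7, 8, 6, 10, 11, 9], [1, 1, 1, 1, 1, 1, 1, 1, 1, 1, 1, 1]),
    ([0, 1, 2, 6, 3, 9, 7, 4, 10, 8, 5, 11], [0, 1, 2, 4, 7, 10, 3, 6, 9, 5, 8, 11], [1, 2, 2, 1, 1, 1, 1, 1, 1, 1, 1, 1]),
    ([0, 1, 2, 7, 3, 11, 9, 8, 4, 5, 10, 6], [0, 1, 2, 4, 8, 9, 11, 3, 7, 6, 10, 5], [1, 2, 1, 2, 2, 2, 2, 2, 2, 2, 2, 2]),
    ([0, 1, 2, 8, 3, 10, 4, 11, 6, 9, 7, 5], [0, 1, 2, 4, 6, 11, 8, 10, 3, 9, 5, 7], [1, 1, 2, 2, 2, 2, 2, 2, 2, 2, 2, 2]),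
    ([0, 1, 2, 9, 3, 6, 11, 5, 8, 10, 4, 7], [0, 1, 2, 4, 10, 7, 5, 11, 8, 3, 9, 6], [1, 2, 2, 1, 1, 1, 1, 1, 1, 1, 1, 1]),
    ([0, 1, 2, 10, 3, 8, 5, 7, 9, 6, 11, 4], [0, 1, 2, 4, 11, 6, 9, 7, 5, 8, 3, 10], [1, 1, 2, 2, 2, 2, 2, 2, 2, 2, 2, 2]),
    ([0, 1, 2, 11, 3, 7, 6, 10, 5, 4, 8, 9], [0, 1, 2, 4, 9, 8, 6, 5, 10, 11, 7, 3], [1, 2, 1, 2, 2, 2, 2, 2, 2, 2, 2, 2]),
    ([0, 1, 2, 3, 5, 4, 9, 11, 10, 6, 8, 7], [0, 1, 2, 3, 5, 4, 9, 11, 10, 6, 8, 7], [1, 1, 1, 1, 1, 1, 1, 1, 1, 1, 1, 1]),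
    ([0, 1, 2, 3, 6, 9, 5, 8, 11, 4, 7, 10], [0, 1, 2, 3, 9, 6, 4, 10, 7, 5, 11, 8], [1, 2, 2, 1, 1, 1, 1, 1, 1, 1, 1, 1]),
    ([0, 1, 2, 3, 7, 11, 10, 5, 6, 8, 9, 4], [0, 1, 2, 3, 11, 7, 8, 4, 9, 10, 6, 5], [1, 2, 1, 2, 2, 2, 2, 2, 2, 2, 2, 2]),
    ([0, 1, 2, 3, 8, 10, 7, 9, 5, 11, 4, 6], [0, 1, 2, 3, 10, 8, 11, 6, 4, 7, 5, 9], [1, 1, 2, 2, 2, 2, 2, 2, 2, 2, 2, 2]),
    ([0, 1, 2, 3, 9, 6, 4, 10, 7, 5, 11, 8], [0, 1, 2, 3, 6, 9, 5, 8, 11, 4, 7, 10], [1, 2, 2, 1, 1, 1, 1, 1, 1, 1, 1, 1]),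
    ([0, 1, 2, 3, 10, 8, 11, 6, 4, 7, 5, 9], [0, 1, 2, 3, 8, 10, 7, 9, 5, 11, 4, 6], [1, 1, 2, 2, 2, 2, 2, 2, 2, 2, 2, 2]),
    ([0, 1, 2, 3, 11, 7, 8, 4, 9, 10, 6, 5], [0, 1, 2, 3, 7, 11, 10, 5, 6, 8, 9, 4], [1, 2, 1, 2, 2, 2, 2, 2, 2, 2, 2, 2])]

theorem table_good : ∀ e ∈ table, Good e.1 e.2.1 e.2.2 := by decide +kernel

/-- Base points. -/
def base (k : Fin 5) : ArrayPt := pt k.val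

theorem base_injective : Function.Injective base := by decide +kernel

theorem table_trans : ∀ k : Fin 5, ∀ y : ArrayPt, (∀ j : Fin 5, j < k → y ≠ base j) →
    ∃ e ∈ table, (∀ j : Fin 5, j < k → tab e.1 (base j) = base j) ∧ tab e.1 (base k) = y := by
  decide +kernel

/-- Bitmasks of the 132 hexads. -/
def hexMasks : List ℕ :=
    [63, 222, 237, 243, 347, 366, 373, 413, 427, 438, 455, 504, 591, 630, 633, 667, 679, 700,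
    725, 746, 791, 813, 826, 860, 867, 910, 945, 969, 978, 996, 1117, 1127, 1146, 1175, 1198,
    1209, 1227, 1268, 1295, 1331, 1340, 1366, 1385, 1434, 1445, 1484, 1489, 1506, 1566, 1579,
    1589, 1619, 1644, 1677, 1714, 1734, 1752, 1761, 1817, 1830, 1861, 1866, 1904, 1923, 1940,
    1960, 2135, 2155, 2172, 2191, 2229, 2234, 2265, 2278, 2334, 2343, 2361, 2381, 2418, 2451,
    2476, 2506, 2516, 2529, 2589, 2606, 2611, 2650, 2661, 2710, 2729, 2755, 2764, 2800, 2827,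
    2868, 2886, 2897, 2920, 2949, 2968, 2978, 3099, 3117, 3126, 3150, 3185, 3228, 3235, 3269,
    3282, 3304, 3349, 3370, 3395, 3416, 3428, 3462, 3465, 3504, 3591, 3640, 3657, 3668, 3682,
    3722, 3729, 3748, 3852, 3858, 3873, 4032]

/-- bitmask of a set of points -/
def maskOf (h : Finset ArrayPt) : ℕ := ∑ p : ArrayPt, if p ∈ h then 2 ^ idx p else 0

/-- word from its six free coordinates -/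
def enc (y1 y2 y3 y4 y5 y6 : ZMod 3) (p : ArrayPt) : ZMod 3 :=
  y1 * bas 0 p + y2 * bas 1 p + y3 * bas 2 p + y4 * bas 3 p + y5 * bas 4 p + y6 * bas 5 p

/-- bitmask of the support of a word -/
def wmask (x : ArrayPt → ZMod 3) : ℕ := ∑ p : ArrayPt, if x p ≠ 0 then 2 ^ idx p else 0

/-- weight of a word -/
def wt (x : ArrayPt → ZMod 3) : ℕ := ∑ p : ArrayPt, if x p ≠ 0 then 1 else 0

theorem mask_mem_enc : ∀ y1 y2 y3 y4 y5 y6 : ZMod 3, wt (enc y1 y2 y3 y4 y5 y6) = 6 →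
    wmask (enc y1 y2 y3 y4 y5 y6) ∈ hexMasks := by
  decide +kernel

/-- Some hexads (as lists of indices) with codewords. -/
def hexData : List (List ℕ × List ℕ) := [
    ([0, 1, 2, 3, 4, 5], [1, 1, 1, 2, 2, 2, 0, 0, 0, 0, 0, 0]),
    ([0, 1, 4, 5, 6, 7], [1, 2, 0, 0, 1, 2, 2, 1, 0, 0, 0, 0]),
    ([0, 2, 3, 5, 6, 7], [1, 0, 2, 1, 0, 2, 1, 2, 0, 0, 0, 0]),
    ([1, 2, 3, 4, 6, 7], [0, 1, 2, 1, 2, 0, 2, 1, 0, 0, 0, 0]),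
    ([0, 1, 3, 4, 6, 8], [1, 2, 0, 1, 2, 0, 1, 0, 2, 0, 0, 0]),
    ([0, 2, 4, 5, 6, 8], [1, 0, 2, 0, 2, 1, 2, 0, 1, 0, 0, 0]),
    ([1, 2, 3, 5, 6, 8], [0, 1, 2, 2, 0, 1, 1, 0, 2, 0, 0, 0]),
    ([0, 1, 2, 3, 6, 9], [1, 2, 2, 2, 0, 0, 2, 0, 0, 2, 0, 0]),
    ([0, 3, 4, 5, 6, 9], [1, 0, 0, 2, 1, 1, 1, 0, 0, 1, 0, 0]),
    ([1, 2, 4, 5, 6, 9], [0, 1, 1, 0, 1, 1, 2, 0, 0, 2, 0, 0]),
    ([0, 1, 2, 5, 6, 10], [1, 2, 1, 0, 0, 1, 1, 0, 0, 0, 1, 0]),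
    ([0, 2, 3, 4, 6, 10], [1, 0, 1, 1, 1, 0, 2, 0, 0, 0, 2, 0]),
    ([1, 3, 4, 5, 6, 10], [0, 1, 0, 1, 1, 2, 1, 0, 0, 0, 1, 0]),
    ([0, 1, 2, 4, 6, 11], [1, 1, 2, 0, 1, 0, 1, 0, 0, 0, 0, 1]),
    ([0, 1, 3, 5, 6, 11], [1, 1, 0, 1, 0, 1, 2, 0, 0, 0, 0, 2]),
    ([2, 3, 4, 5, 6, 11], [0, 0, 1, 1, 2, 1, 1, 0, 0, 0, 0, 1])]

theorem hexData_spec : ∀ e ∈ hexData, Chk (wordOf e.2) ∧
    ternarySupport (wordOf e.2) = (e.1.map pt).toFinset ∧ ((e.1.map pt).toFinset).card = 6 := by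
  decide +kernel

theorem rigid0 : ∀ y : ArrayPt, maskOf {pt 0, pt 1, pt 2, pt 3, pt 4, y} ∈ hexMasks → y = pt 5 := by
  decide +kernel

/-- `a, b, c, d, y, y'` form a hexad (mask test). -/
def Six (a b c d : ℕ) (y y' : ArrayPt) : Prop :=
  maskOf {pt a, pt b, pt c, pt d, y, y'} ∈ hexMasks

instance instDecidableSix (a b c d : ℕ) (y y' : ArrayPt) : Decidable (Six a b c d y y') := by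
  unfold Six; infer_instance

theorem rigid7 : ∀ y y' : ArrayPt, Six 0 1 4 5 y y' ∧ Six 0 2 3 5 y y' ∧ Six 1 2 3 4 y y' →
    (y = pt 6 ∧ y' = pt 7) ∨ (y = pt 7 ∧ y' = pt 6) := by
  decide +kernel

theorem rigid8 : ∀ y y' : ArrayPt, Six 0 1 3 4 y y' ∧ Six 0 2 4 5 y y' ∧ Six 1 2 3 5 y y' →
    (y = pt 6 ∧ y' = pt 8) ∨ (y = pt 8 ∧ y' = pt 6) := by
  decide +kernel

theorem rigid9 : ∀ y y' : ArrayPt, Six 0 1 2 3 y y' ∧ Six 0 3 4 5 y y' ∧ Six 1 2 4 5 y y' →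
    (y = pt 6 ∧ y' = pt 9) ∨ (y = pt 9 ∧ y' = pt 6) := by
  decide +kernel

theorem rigid10 : ∀ y y' : ArrayPt, Six 0 1 2 5 y y' ∧ Six 0 2 3 4 y y' ∧ Six 1 3 4 5 y y' →
    (y = pt 6 ∧ y' = pt 10) ∨ (y = pt 10 ∧ y' = pt 6) := by
  decide +kernel

theorem rigid11 : ∀ y y' : ArrayPt, Six 0 1 2 4 y y' ∧ Six 0 1 3 5 y y' ∧ Six 2 3 4 5 y y' →
    (y = pt 6 ∧ y' = pt 11) ∨ (y = pt 11 ∧ y' = pt 6) := by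
  decide +kernel

end Cfsg.Agent.TernaryGolay.AutData
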